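import Mathlib

set_option autoImplicit false

/-! Arithmetic for the spectrum of `PSU_3(q)`. -/

namespace Cfsg.Agent.Lib.Helper5.SpecU3

theorem div_gcd_dvd_of_dvd_mul (s m j : ℕ) (hs : 0 < s) (h : s ∣ j * m) : s / Nat.gcd s m ∣ j := by
  have hpos : 0 < Nat.gcd s m := Nat.gcd_pos_of_pos_left _ hs
  have hcop := Nat.coprime_div_gcd_div_gcd hpos
  obtain ⟨s1, hs1⟩ := Nat.gcd_dvd_left s m
  obtain ⟨u, hu⟩ := Nat.gcd_dvd_right s m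
  obtain ⟨g, hgdef⟩ : ∃ g, g = Nat.gcd s m := ⟨_, rfl⟩
  rw [← hgdef] at hpos hcop hs1 hu ⊢
  have e1 : s / g = s1 := by
    rw [hs1, Nat.mul_div_cancel_left _ hpos]
  have e2 : m / g = u := by
    rw [hu, Nat.mul_div_cancel_left _ hpos]
  rw [e1, e2] at hcop
  rw [e1]
  rw [hs1, hu] at h
  have h2 : g * s1 ∣ g * (j * u) := by
    have : j * (g * u) = g * (j * u) := by ring
    rw [← this]
    exact h
  have h3 : s1 ∣ j * u := Nat.dvd_of_mul_dvd_mul_left hpos h2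
  exact hcop.dvd_of_dvd_mul_right h3

theorem sq_sub_add_eq (q : ℕ) (hq : 2 ≤ q) : q ^ 2 - q + 1 = 3 + (q + 1) * (q - 2) := by
  obtain ⟨k, rfl⟩ : ∃ k, q = k + 2 := ⟨q - 2, by omega⟩
  have h1 : (k + 2) ^ 2 - (k + 2) = k ^ 2 + 3 * k + 2 := by
    have : (k + 2) ^ 2 = (k ^ 2 + 3 * k + 2) + (k + 2) := by ring
    rw [this, Nat.add_sub_cancel]
  rw [h1]
  simp only [Nat.add_sub_cancel]
  ring

theorem sq_sub_add_eq' (q : ℕ) (hq : 1 ≤ q) : q ^ 2 - q + 1 = 1 + (q - 1) * q := by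
  obtain ⟨k, rfl⟩ : ∃ k, q = k + 1 := ⟨q - 1, by omega⟩
  have h1 : (k + 1) ^ 2 - (k + 1) = k * (k + 1) := by
    have : (k + 1) ^ 2 = k * (k + 1) + (k + 1) := by ring
    rw [this, Nat.add_sub_cancel]
  rw [h1]
  simp only [Nat.add_sub_cancel]
  ring

theorem gcdU_dvd_s (q : ℕ) (hq : 2 ≤ q) : Nat.gcd 3 (q + 1) ∣ q ^ 2 - q + 1 := by
  rw [sq_sub_add_eq q hq]
  exact Dvd.dvd.add (Nat.gcd_dvd_left _ _) (Dvd.dvd.mul_right (Nat.gcd_dvd_right _ _) _)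

theorem gcdU_dvd_sub_two (q : ℕ) (hq : 2 ≤ q) : Nat.gcd 3 (q + 1) ∣ q - 2 := by
  have h1 : Nat.gcd 3 (q + 1) ∣ q + 1 := Nat.gcd_dvd_right _ _
  have h2 : Nat.gcd 3 (q + 1) ∣ 3 := Nat.gcd_dvd_left _ _
  have h3 : q - 2 = (q + 1) - 3 := by omega
  rw [h3]
  exact Nat.dvd_sub h1 h2

theorem gcdU_pos (q : ℕ) : 0 < Nat.gcd 3 (q + 1) := Nat.gcd_pos_of_pos_left _ (by norm_num)

/-- `gcd(q² - q + 1, q² - 1) = gcd(3, q + 1)` -/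
theorem gcd_s_sq_sub_one (q : ℕ) (hq : 2 ≤ q) :
    Nat.gcd (q ^ 2 - q + 1) (q ^ 2 - 1) = Nat.gcd 3 (q + 1) := by
  have h1 : q ^ 2 - 1 = (q - 1) * (q + 1) := by
    obtain ⟨k, rfl⟩ : ∃ k, q = k + 1 := ⟨q - 1, by omega⟩
    simp only [Nat.add_sub_cancel]
    have : (k + 1) ^ 2 = k * (k + 1 + 1) + 1 := by ring
    rw [this, Nat.add_sub_cancel]
  have hcop : Nat.Coprime (q ^ 2 - q + 1) (q - 1) := by
    rw [sq_sub_add_eq' q (by omega), Nat.Coprime, Nat.gcd_add_mul_left_left]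
    exact Nat.gcd_one_left _
  rw [h1, Nat.Coprime.gcd_mul_left_cancel_right _ hcop.symm, sq_sub_add_eq q hq,
    Nat.gcd_add_mul_left_left]

theorem pow_six_div (q : ℕ) (hq : 2 ≤ q) :
    ((q ^ 2) ^ 3 - 1) / (q ^ 2 - 1) = (q ^ 2 + q + 1) * (q ^ 2 - q + 1) := by
  have hq2 : 2 ≤ q ^ 2 := by nlinarith
  have h1 : (q ^ 2) ^ 3 - 1 = (q ^ 2 - 1) * ((q ^ 2 + q + 1) * (q ^ 2 - q + 1)) := by
    have hle : q ≤ q ^ 2 := by nlinarith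
    zify [hle, Nat.one_le_pow 3 (q ^ 2) (by omega), (by omega : 1 ≤ q ^ 2)]
    ring
  rw [h1, Nat.mul_div_cancel_left _ (by omega)]

theorem pow_four_div (q : ℕ) (hq : 2 ≤ q) : ((q ^ 2) ^ 2 - 1) / (q ^ 2 - 1) = q ^ 2 + 1 := by
  have hq2 : 2 ≤ q ^ 2 := by nlinarith
  have h1 : (q ^ 2) ^ 2 - 1 = (q ^ 2 - 1) * (q ^ 2 + 1) := by
    zify [Nat.one_le_pow 2 (q ^ 2) (by omega), (by omega : 1 ≤ q ^ 2)]
    ring
  rw [h1, Nat.mul_div_cancel_left _ (by omega)]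

theorem cube_add_one_eq (q : ℕ) (hq : 1 ≤ q) : q ^ 3 + 1 = (q + 1) * (q ^ 2 - q + 1) := by
  have hle : q ≤ q ^ 2 := by nlinarith
  zify [hle]
  ring

/-- if `A ∣ 3 j` and `A ∣ m j` then `A / gcd(3, m) ∣ j` -/
theorem div_gcd_dvd_gen (m A j : ℕ) (hA : Nat.gcd 3 m ∣ A) (h3 : A ∣ 3 * j)
    (hm : A ∣ m * j) : A / Nat.gcd 3 m ∣ j := by
  have hpos : 0 < Nat.gcd 3 m := Nat.gcd_pos_of_pos_left _ (by norm_num)
  have h1 : A ∣ Nat.gcd (3 * j) (m * j) := Nat.dvd_gcd h3 hm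
  rw [Nat.gcd_mul_right] at h1
  obtain ⟨B, hB⟩ := hA
  rw [hB, Nat.mul_div_cancel_left _ hpos]
  rw [hB] at h1
  exact Nat.dvd_of_mul_dvd_mul_left hpos h1

end Cfsg.Agent.Lib.Helper5.SpecU3
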