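import Mathlib
import Cfsg.Agent.Lib.Helper5.SpecU3.Crit
import Cfsg.Agent.Lib.Helper5.SpecU3.NTU
import Cfsg.Agent.Lib.Helper5.HermBasis
import Cfsg.Agent.Lib.Helper5.HermWitt
import Cfsg.Agent.Lib.Helper5.SpecSL.ExistK1
import Cfsg.Agent.Lib.Helper5.Spec3.Lower

set_option autoImplicit false
open Cfsg

/-! Conjugates of matrices preserving a twisted hermitian Gram matrix are unitary. -/

namespace Cfsg.Agent.Lib.Helper5.SpecU3

open Matrix Cfsg.Agent.Lib.Helper5.HermCenter Cfsg.Agent.Lib.Helper5.HermBridge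
  Cfsg.Agent.Lib.Helper5.Herm

variable {F : Type*} [Field F] [Fintype F] {q : ℕ} (hF : Fintype.card F = q ^ 2) {n : ℕ}

include hF in
theorem isU_conj (P D H : Matrix (Fin n) (Fin n) F) (hP : IsUnit P.det)
    (hH : Pᵀ * P.map (sigma hF) = H) (hD : Dᵀ * H * D.map (sigma hF) = H) :
    IsU q (P * D * P⁻¹) := by
  have h1 : P * P⁻¹ = 1 := Matrix.mul_nonsing_inv P hP
  have h2 : (P * D * P⁻¹).map (sigma hF) =
      P.map (sigma hF) * D.map (sigma hF) * (P⁻¹).map (sigma hF) := by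
    rw [Matrix.map_mul, Matrix.map_mul]
  have h3 : P.map (sigma hF) * (P⁻¹).map (sigma hF) = 1 := by
    rw [← Matrix.map_mul, h1, Matrix.map_one _ (map_zero _) (map_one _)]
  show (P * D * P⁻¹)ᵀ * (P * D * P⁻¹).map (sigma hF) = 1
  rw [h2, Matrix.transpose_mul, Matrix.transpose_mul]
  calc (P⁻¹)ᵀ * (Dᵀ * Pᵀ) * (P.map (sigma hF) * D.map (sigma hF) * (P⁻¹).map (sigma hF))
      = (P⁻¹)ᵀ * (Dᵀ * (Pᵀ * P.map (sigma hF)) * D.map (sigma hF)) * (P⁻¹).map (sigma hF) := by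
        simp only [Matrix.mul_assoc]
    _ = (P⁻¹)ᵀ * (Pᵀ * P.map (sigma hF)) * (P⁻¹).map (sigma hF) := by rw [hH, hD]
    _ = (P * P⁻¹)ᵀ * (P.map (sigma hF) * (P⁻¹).map (sigma hF)) := by
        rw [Matrix.transpose_mul]
        simp only [Matrix.mul_assoc]
    _ = 1 := by rw [h1, h3, Matrix.transpose_one, Matrix.mul_one]

omit [Fintype F] in
theorem conj_pow (P D : Matrix (Fin n) (Fin n) F) (hP : IsUnit P.det) (j : ℕ) :
    (P * D * P⁻¹) ^ j = P * D ^ j * P⁻¹ := by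
  have h1 : P⁻¹ * P = 1 := Matrix.nonsing_inv_mul P hP
  induction j with
  | zero => rw [pow_zero, pow_zero, Matrix.mul_one, Matrix.mul_nonsing_inv P hP]
  | succ j ih =>
    rw [pow_succ, ih, pow_succ]
    calc P * D ^ j * P⁻¹ * (P * D * P⁻¹) = P * D ^ j * (P⁻¹ * P) * D * P⁻¹ := by
          simp only [Matrix.mul_assoc]
      _ = P * (D ^ j * D) * P⁻¹ := by rw [h1, Matrix.mul_one]; simp only [Matrix.mul_assoc]

omit [Fintype F] in
theorem conj_pow_scalar (P D : Matrix (Fin n) (Fin n) F) (hP : IsUnit P.det) (j : ℕ) (z : F)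
    (h : (P * D * P⁻¹) ^ j = z • (1 : Matrix (Fin n) (Fin n) F)) :
    D ^ j = z • (1 : Matrix (Fin n) (Fin n) F) := by
  have h1 : P⁻¹ * P = 1 := Matrix.nonsing_inv_mul P hP
  rw [conj_pow P D hP] at h
  calc D ^ j = (P⁻¹ * P) * D ^ j * (P⁻¹ * P) := by rw [h1, Matrix.one_mul, Matrix.mul_one]
    _ = P⁻¹ * (P * D ^ j * P⁻¹) * P := by simp only [Matrix.mul_assoc]
    _ = z • (1 : Matrix (Fin n) (Fin n) F) := by
        rw [h, Matrix.mul_smul, Matrix.mul_one, Matrix.smul_mul, h1]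

omit [Fintype F] in
theorem det_conj' (P D : Matrix (Fin n) (Fin n) F) (hP : IsUnit P.det) :
    (P * D * P⁻¹).det = D.det := by
  rw [Matrix.det_mul, Matrix.det_mul, mul_comm P.det, mul_assoc, ← Matrix.det_mul,
    Matrix.mul_nonsing_inv P hP, Matrix.det_one, mul_one]

end Cfsg.Agent.Lib.Helper5.SpecU3
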