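import Mathlib
import Cfsg.Agent.Lib.Helper5.SpecU3.LowerU1

set_option autoImplicit false
open Cfsg

/-! Explicit cyclic subgroups of `PSU_3(q)`: the split tori and the mixed elements. -/

namespace Cfsg.Agent.Lib.Helper5.SpecU3

open Matrix Cfsg.Agent.Lib.Helper5.HermCenter Cfsg.Agent.Lib.Helper5.HermBridge
  Cfsg.Agent.Lib.Helper5.Herm Cfsg.Agent.Lib.Helper5.SpecSL

variable {F : Type*} [Field F] [Fintype F] {q : ℕ} (hF : Fintype.card F = q ^ 2)

include hF in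
theorem exists_psu_of_matrix (M : Matrix (Fin 3) (Fin 3) F) (hdet : M.det = 1) (hU : IsU q M)
    (N : ℕ) (h : ∀ (j : ℕ) (z : F), M ^ j = z • (1 : Matrix (Fin 3) (Fin 3) F) → N ∣ j) :
    ∃ x : Cfsg.PSU 3 F q, ∀ j, x ^ j = 1 → N ∣ j := by
  obtain ⟨A0, hA0⟩ : ∃ A0 : Matrix.SpecialLinearGroup (Fin 3) F,
      (A0 : Matrix (Fin 3) (Fin 3) F) = M := ⟨⟨M, hdet⟩, rfl⟩
  have hmem : A0 ∈ Cfsg.SU 3 F q := by
    rw [mem_SU_iff hF, hA0]
    exact hU
  refine ⟨((⟨A0, hmem⟩ : ↥(Cfsg.SU 3 F q)) : Cfsg.PSU 3 F q), ?_⟩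
  intro j hj
  obtain ⟨z, hz⟩ := (mk_pow_eq_one_iff_SU hF _ j).mp hj
  apply h j z
  rw [← hA0]
  exact hz

include hF in
/-- an element with `ε ε^q = -1` -/
theorem exists_norm_neg_one : ∃ ε : F, ε * ε ^ q = -1 := by
  obtain ⟨t, ht⟩ := Cfsg.Agent.Lib.Helper5.HermBasis.exists_norm (sigma_ne_id hF) (sigma_sigma hF)
    (-1 : F) (neg_ne_zero.mpr one_ne_zero) (by rw [sigma_apply]; exact pow_q_neg_one hF)
  exact ⟨t, ht⟩

include hF in
/-- a non-zero element of trace zero -/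
theorem exists_trace_zero : ∃ t : F, t ≠ 0 ∧ t + t ^ q = 0 := by
  obtain ⟨t, ht0, ht⟩ := Cfsg.Agent.Lib.Helper5.HermWitt.exists_trace (sigma_ne_id hF)
    (sigma_sigma hF) (0 : F) (map_zero _)
  exact ⟨t, ht0, ht⟩

include hF in
theorem card_sub_one_eq' : Fintype.card F - 1 = (q + 1) * (q - 1) := by
  have hq2 : 2 ≤ q := two_le_q hF
  rw [hF]
  obtain ⟨k, rfl⟩ : ∃ k, q = k + 1 := ⟨q - 1, by omega⟩
  simp only [Nat.add_sub_cancel]
  have : (k + 1) ^ 2 = (k + 1 + 1) * k + 1 := by ring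
  rw [this, Nat.add_sub_cancel]

include hF in
/-- the diagonal torus: order `q + 1` -/
theorem exists_diagU : ∃ x : Cfsg.PSU 3 F q, ∀ j, x ^ j = 1 → q + 1 ∣ j := by
  obtain ⟨a, ha0, ha⟩ := exists_orderOf_eq (F := F) (q + 1)
    (by rw [card_sub_one_eq' hF]; exact Dvd.intro _ rfl)
  have ha1 : a ^ (q + 1) = 1 := by rw [← ha]; exact pow_orderOf_eq_one a
  apply exists_psu_of_matrix hF (Matrix.diagonal ![a, a⁻¹, 1])
  · rw [Matrix.det_diagonal, Fin.prod_univ_three]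
    simp [ha0]
  · apply isU_diagonal hF
    intro i
    fin_cases i
    · exact ha1
    · show (a⁻¹) ^ (q + 1) = 1
      rw [inv_pow, ha1, inv_one]
    · exact one_pow _
  · intro j z hz
    rw [Matrix.diagonal_pow] at hz
    have h22 := congrFun (congrFun hz 2) 2
    have h00 := congrFun (congrFun hz 0) 0
    simp at h22 h00
    rw [← ha]
    apply orderOf_dvd_of_pow_eq_one
    rw [h00, ← h22]

include hF in
theorem gram_hyp (ε : F) (hε : ε * ε ^ q = -1) :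
    (!![1, 1, 0; ε, -ε, 0; 0, 0, 1] : Matrix (Fin 3) (Fin 3) F)ᵀ *
      (!![1, 1, 0; ε, -ε, 0; 0, 0, 1] : Matrix (Fin 3) (Fin 3) F).map (sigma hF) =
    !![0, 2, 0; 2, 0, 0; 0, 0, 1] := by
  have hq0 : q ≠ 0 := q_ne_zero hF
  have hneg : (-ε) ^ q = -(ε ^ q) := pow_q_neg hF ε
  ext i j
  fin_cases i <;> fin_cases j <;>
    simp [Matrix.mul_apply, Fin.sum_univ_three, Matrix.map_apply, sigma_apply, hneg, hq0]
  all_goals (rw [hε]; norm_num)

include hF in
theorem diag_hyp (b b' c : F) (h1 : b * b' ^ q = 1) (h2 : b' * b ^ q = 1) (h3 : c * c ^ q = 1) :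
    (Matrix.diagonal ![b, b', c] : Matrix (Fin 3) (Fin 3) F)ᵀ * !![0, 2, 0; 2, 0, 0; 0, 0, 1] *
      (Matrix.diagonal ![b, b', c] : Matrix (Fin 3) (Fin 3) F).map (sigma hF) =
    !![0, 2, 0; 2, 0, 0; 0, 0, 1] := by
  have hq0 : q ≠ 0 := q_ne_zero hF
  ext i j
  fin_cases i <;> fin_cases j <;>
    simp [Matrix.mul_apply, sigma_apply, hq0, Matrix.diagonal_apply]
  · linear_combination 2 * h1
  · linear_combination 2 * h2
  · exact h3

include hF in
theorem gram_tv (ε t : F) (hε : ε * ε ^ q = -1) (ht : t + t ^ q = 0) :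
    (!![0, t, 1; 0, t * ε, -ε; 1, 0, 0] : Matrix (Fin 3) (Fin 3) F)ᵀ *
      (!![0, t, 1; 0, t * ε, -ε; 1, 0, 0] : Matrix (Fin 3) (Fin 3) F).map (sigma hF) =
    !![1, 0, 0; 0, 0, 2 * t; 0, -(2 * t), 0] := by
  have hq0 : q ≠ 0 := q_ne_zero hF
  have hneg : (-ε) ^ q = -(ε ^ q) := pow_q_neg hF ε
  ext i j
  fin_cases i <;> fin_cases j <;>
    simp [Matrix.mul_apply, Fin.sum_univ_three, Matrix.map_apply, sigma_apply, hneg, hq0, mul_pow]
  · linear_combination (t * t ^ q) * hε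
  · linear_combination (-t) * hε
  · linear_combination (-t ^ q) * hε + 2 * ht
  · linear_combination hε

include hF in
theorem dmat_tv (a c t : F) (ha : a * a ^ q = 1) (hc : c * c ^ q = 1) :
    (dmat a c)ᵀ * !![1, 0, 0; 0, 0, 2 * t; 0, -(2 * t), 0] * (dmat a c).map (sigma hF) =
    !![1, 0, 0; 0, 0, 2 * t; 0, -(2 * t), 0] := by
  have hq0 : q ≠ 0 := q_ne_zero hF
  unfold dmat
  ext i j
  fin_cases i <;> fin_cases j <;>
    simp [Matrix.mul_apply, Fin.sum_univ_three, Matrix.map_apply, sigma_apply, hq0]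
  · exact hc
  · linear_combination (2 * t) * ha
  · linear_combination (2 * t) * ha

include hF in
/-- the torus of order `(q² - 1) / d` -/
theorem exists_torusU (h2 : (2 : F) ≠ 0) :
    ∃ x : Cfsg.PSU 3 F q, ∀ j, x ^ j = 1 → (q ^ 2 - 1) / Nat.gcd 3 (q + 1) ∣ j := by
  have hq2 : 2 ≤ q := two_le_q hF
  obtain ⟨ε, hε⟩ := exists_norm_neg_one hF
  have hε0 : ε ≠ 0 := by
    rintro rfl
    rw [zero_mul] at hε
    exact (neg_ne_zero.mpr one_ne_zero) hε.symm
  obtain ⟨b, hb0, hb⟩ := exists_orderOf_eq (F := F) (Fintype.card F - 1) dvd_rfl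
  rw [hF] at hb
  have hbcard : b ^ (q ^ 2 - 1) = 1 := by rw [← hb]; exact pow_orderOf_eq_one b
  have hbq0 : b ^ q ≠ 0 := pow_ne_zero _ hb0
  obtain ⟨b', hb'⟩ : ∃ b' : F, b' = (b ^ q)⁻¹ := ⟨_, rfl⟩
  obtain ⟨c, hc⟩ : ∃ c : F, c = b ^ (q - 1) := ⟨_, rfl⟩
  have hsq : q ^ 2 - 1 = (q + 1) * (q - 1) := by rw [← hF]; exact card_sub_one_eq' hF
  have h1 : b * b' ^ q = 1 := by
    rw [hb', inv_pow, pow_q_pow_q hF, mul_inv_cancel₀ hb0]
  have h2' : b' * b ^ q = 1 := by rw [hb', inv_mul_cancel₀ hbq0]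
  have h3 : c * c ^ q = 1 := by
    rw [hc, ← pow_mul, ← pow_add, ← hbcard, hsq]
    congr 1
    ring
  obtain ⟨P, hPdef⟩ : ∃ P : Matrix (Fin 3) (Fin 3) F, P = !![1, 1, 0; ε, -ε, 0; 0, 0, 1] :=
    ⟨_, rfl⟩
  have hP : IsUnit P.det := by
    rw [hPdef, Matrix.det_fin_three]
    simp
    have : -ε - ε = -(2 * ε) := by ring
    rw [this]
    exact neg_ne_zero.mpr (mul_ne_zero h2 hε0)
  apply exists_psu_of_matrix hF (P * Matrix.diagonal ![b, b', c] * P⁻¹)
  · rw [det_conj' P _ hP, Matrix.det_diagonal, Fin.prod_univ_three]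
    show b * b' * c = 1
    rw [hb', hc]
    have : b * b ^ (q - 1) = b ^ q := by
      rw [← pow_succ']
      congr 1
      omega
    calc b * (b ^ q)⁻¹ * b ^ (q - 1) = (b * b ^ (q - 1)) * (b ^ q)⁻¹ := by ring
      _ = 1 := by rw [this, mul_inv_cancel₀ hbq0]
  · apply isU_conj hF P _ !![0, 2, 0; 2, 0, 0; 0, 0, 1] hP
    · rw [hPdef]; exact gram_hyp hF ε hε
    · exact diag_hyp hF b b' c h1 h2' h3
  · intro j z hz
    have hD := conj_pow_scalar P _ hP j z hz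
    rw [Matrix.diagonal_pow] at hD
    have h00 := congrFun (congrFun hD 0) 0
    have h11 := congrFun (congrFun hD 1) 1
    have h22 := congrFun (congrFun hD 2) 2
    simp at h00 h11 h22
    -- `b ^ ((q + 1) j) = 1`
    have e1 : b ^ ((q + 1) * j) = 1 := by
      have : b ^ ((q + 1) * j) = (b ^ q) ^ j * b ^ j := by
        rw [← pow_mul, ← pow_add]
        congr 1
        ring
      rw [this, h00, ← h11, hb', ← mul_pow, mul_inv_cancel₀ hbq0, one_pow]
    -- `b ^ ((q - 2) j) = 1`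
    have e2 : b ^ ((q - 2) * j) = 1 := by
      have h4 : b ^ ((q - 2) * j) * b ^ j = 1 * b ^ j := by
        rw [one_mul, ← pow_add]
        have : (q - 2) * j + j = (q - 1) * j := by
          obtain ⟨k, rfl⟩ : ∃ k, q = k + 2 := ⟨q - 2, by omega⟩
          simp only [Nat.add_sub_cancel]
          have : k + 2 - 1 = k + 1 := by omega
          rw [this]
          ring
        rw [this, pow_mul, ← hc, h22, h00]
      exact mul_right_cancel₀ (pow_ne_zero _ hb0) h4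
    have d1 : q ^ 2 - 1 ∣ (q + 1) * j := by
      rw [← hb]; exact orderOf_dvd_of_pow_eq_one e1
    have d2 : q ^ 2 - 1 ∣ (q - 2) * j := by
      rw [← hb]; exact orderOf_dvd_of_pow_eq_one e2
    have d3 : q ^ 2 - 1 ∣ 3 * j := by
      have : 3 * j = (q + 1) * j - (q - 2) * j := by
        rw [← Nat.sub_mul]
        congr 1
        omega
      rw [this]
      exact Nat.dvd_sub d1 d2
    refine div_gcd_dvd_gen (q + 1) _ j ?_ d3 d1
    rw [hsq]
    exact Dvd.dvd.mul_right (Nat.gcd_dvd_right _ _) _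

end Cfsg.Agent.Lib.Helper5.SpecU3
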