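import Mathlib
import Cfsg.Agent.Lib.Helper5.SpecU3.LowerU2

set_option autoImplicit false
open Cfsg

/-! The hermitian trace form `(x, y) ↦ Tr(x^(q³) y)` on the cubic extension of `F_{q²}`. -/

namespace Cfsg.Agent.Lib.Helper5.SpecU3

open Cfsg.Agent.Lib.Helper5.HermBridge Cfsg.Agent.Lib.Helper5.Herm
  Cfsg.Agent.Lib.Helper5.HermCenter Cfsg.Agent.Lib.Helper5.SpecSL

variable {F : Type*} [Field F] [Fintype F] {q : ℕ} (hF : Fintype.card F = q ^ 2)
variable (K : Type*) [Field K] [Algebra F K] [Fintype K] (hK : Module.finrank F K = 3)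

omit [Fintype K] in
include hF in
theorem add_pow_qK (k : ℕ) (x y : K) : (x + y) ^ (q ^ k) = x ^ (q ^ k) + y ^ (q ^ k) := by
  obtain ⟨p, f, hp, hcp, hq⟩ := exists_char_pow hF
  have hpF : Fact p.Prime := ⟨hp⟩
  have hcK : CharP K p := charP_of_injective_algebraMap (algebraMap F K).injective p
  rw [hq, ← pow_mul]
  exact add_pow_char_pow x y p (f * k)

omit [Fintype K] in
include hF in
theorem algebraMap_pow_cube (c : F) :
    (algebraMap F K c) ^ (q ^ 3) = algebraMap F K (c ^ q) := by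
  rw [← map_pow]
  congr 1
  have h1 : c ^ (q ^ 2) = c := by rw [← hF]; exact FiniteField.pow_card c
  have : q ^ 3 = q ^ 2 * q := by ring
  rw [this, pow_mul, h1]

include hF hK in
theorem card_K : Fintype.card K = q ^ 6 := by
  have h := Module.card_eq_pow_finrank (K := F) (V := K)
  rw [hK, hF] at h
  rw [h]
  ring

include hF hK in
theorem pow_q6 (x : K) : x ^ (q ^ 6) = x := by
  rw [← card_K hF K hK]
  exact FiniteField.pow_card x

include hF hK in
theorem trace_formula (z : K) :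
    algebraMap F K (Algebra.trace F K z) = z + z ^ (q ^ 2) + z ^ (q ^ 4) := by
  rw [FiniteField.algebraMap_trace_eq_sum_pow, hK, Nat.card_eq_fintype_card, hF,
    Finset.sum_range_succ, Finset.sum_range_succ, Finset.sum_range_one, pow_zero, pow_one, pow_one,
    ← pow_mul]

include hF hK in
/-- the trace is invariant under the `q²`-power map -/
theorem trace_pow_sq (z : K) : Algebra.trace F K (z ^ (q ^ 2)) = Algebra.trace F K z := by
  apply (algebraMap F K).injective
  rw [trace_formula hF K hK, trace_formula hF K hK, ← pow_mul, ← pow_mul]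
  have e1 : q ^ 2 * q ^ 2 = q ^ 4 := by ring
  have e2 : q ^ 2 * q ^ 4 = q ^ 6 := by ring
  rw [e1, e2, pow_q6 hF K hK]
  ring

include hF hK in
/-- the trace commutes with the `q`-power map -/
theorem trace_pow_q (z : K) : Algebra.trace F K (z ^ q) = (Algebra.trace F K z) ^ q := by
  apply (algebraMap F K).injective
  rw [map_pow (algebraMap F K), trace_formula hF K hK, trace_formula hF K hK]
  have h1 := add_pow_qK hF K 1
  rw [pow_one] at h1
  rw [h1, h1, ← pow_mul, ← pow_mul, ← pow_mul, ← pow_mul, mul_comm (q ^ 2) q, mul_comm (q ^ 4) q]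

include hF hK in
theorem pow_q7 (y : K) : y ^ (q ^ 7) = y ^ q := by
  have : q ^ 7 = q ^ 6 * q := by ring
  rw [this, pow_mul, pow_q6 hF K hK]

/-- the hermitian trace form on `K` -/
noncomputable def traceHerm : K →ₛₗ[sigma hF] K →ₗ[F] F :=
  LinearMap.mk₂'ₛₗ (sigma hF) (RingHom.id F) (fun x y => Algebra.trace F K (x ^ (q ^ 3) * y))
    (fun x x' y => by rw [add_pow_qK hF K 3, add_mul, map_add])
    (fun c x y => by
      rw [Algebra.smul_def, mul_pow, algebraMap_pow_cube hF K, mul_assoc, ← Algebra.smul_def,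
        map_smul, sigma_apply])
    (fun x y y' => by rw [mul_add, map_add])
    (fun c x y => by rw [mul_smul_comm, map_smul, RingHom.id_apply])

omit [Fintype K] in
theorem traceHerm_apply (x y : K) :
    traceHerm hF K x y = Algebra.trace F K (x ^ (q ^ 3) * y) := rfl

include hK in
theorem traceHerm_isSymm : (traceHerm hF K).IsSymm := by
  refine ⟨fun x y => ?_⟩
  rw [traceHerm_apply, traceHerm_apply, sigma_apply, ← trace_pow_q hF K hK, mul_pow, ← pow_mul]
  rw [← trace_pow_sq hF K hK (y ^ (q ^ 3) * x),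
    ← trace_pow_sq hF K hK ((y ^ (q ^ 3) * x) ^ (q ^ 2)), ← pow_mul, mul_pow, ← pow_mul]
  have e1 : q ^ 3 * (q ^ 2 * q ^ 2) = q ^ 7 := by ring
  have e2 : q ^ 3 * q = q ^ 2 * q ^ 2 := by ring
  rw [e1, e2, pow_q7 hF K hK, mul_comm]

include hK in
theorem traceHerm_nondegenerate : (traceHerm hF K).Nondegenerate := by
  have hnd := _root_.traceForm_nondegenerate F K
  constructor
  · intro x hx
    have h1 : x ^ (q ^ 3) = 0 :=
      hnd.1 _ (fun y => by rw [Algebra.traceForm_apply]; exact hx y)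
    exact (pow_eq_zero_iff (pow_ne_zero _ (q_ne_zero hF))).mp h1
  · intro y hy
    apply hnd.2
    intro w
    rw [Algebra.traceForm_apply]
    have := hy (w ^ (q ^ 3))
    rw [traceHerm_apply, ← pow_mul] at this
    have e : q ^ 3 * q ^ 3 = q ^ 6 := by ring
    rwa [e, pow_q6 hF K hK] at this

include hK in
/-- coordinates on `K` in which the trace form is the standard hermitian form -/
theorem exists_coord : ∃ φ : (Fin 3 → F) ≃ₗ[F] K, ∀ u v,
    traceHerm hF K (φ u) (φ v) = hermForm 3 F q v u := by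
  obtain ⟨b, hb⟩ := Cfsg.Agent.Lib.Helper5.HermBasis.exists_orthonormal (sigma_ne_id hF)
    (sigma_sigma hF) 3 (traceHerm hF K) (traceHerm_isSymm hF K hK)
    (traceHerm_nondegenerate hF K hK) hK
  have hli := Cfsg.Agent.Lib.Helper5.HermBasis.linearIndependent_of_orthonormal
    (traceHerm hF K) b hb
  let bas : Module.Basis (Fin 3) F K :=
    basisOfLinearIndependentOfCardEqFinrank hli (by rw [hK]; simp)
  have hbas : ∀ i, bas i = b i := fun i => by
    simp only [bas, coe_basisOfLinearIndependentOfCardEqFinrank]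
  refine ⟨bas.equivFun.symm, fun u v => ?_⟩
  rw [Module.Basis.equivFun_symm_apply, Module.Basis.equivFun_symm_apply]
  simp only [map_sum, LinearMap.map_smulₛₗ, LinearMap.sum_apply, LinearMap.smul_apply, hbas, hb,
    sigma_apply, RingHom.id_apply, smul_eq_mul, mul_ite, mul_one, mul_zero,
    Finset.sum_ite_eq', Finset.mem_univ, if_true]
  unfold hermForm
  rfl

include hF hK in
theorem s_dvd_card_K : q ^ 2 - q + 1 ∣ Fintype.card K - 1 := by
  have hq2 : 2 ≤ q := two_le_q hF
  rw [card_K hF K hK]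
  have h1 : q ^ 6 = (q ^ 2) ^ 3 := by ring
  have h2 : q ^ 2 - 1 ∣ (q ^ 2) ^ 3 - 1 := Nat.sub_one_dvd_pow_sub_one _ _
  have h3 := Nat.div_mul_cancel h2
  rw [pow_six_div q hq2] at h3
  rw [h1, ← h3]
  exact Dvd.dvd.mul_right (Dvd.intro_left _ rfl) _

include hF hK in
theorem norm_eq_one_of_pow (lam : K) (h : lam ^ (q ^ 2 - q + 1) = 1) :
    Algebra.norm F lam = 1 := by
  have hq2 : 2 ≤ q := two_le_q hF
  apply (algebraMap F K).injective
  rw [FiniteField.algebraMap_norm_eq_pow, Nat.card_eq_fintype_card, Nat.card_eq_fintype_card,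
    card_K hF K hK, hF, map_one]
  have h1 : q ^ 6 = (q ^ 2) ^ 3 := by ring
  rw [h1, pow_six_div q hq2, mul_comm, pow_mul, h, one_pow]

include hF hK in
/-- the Singer-type torus: an element of order `(q² - q + 1)/d` of `PSU_3(q)`, from a cubic
extension of `F` -/
theorem exists_singerU_of_ext :
    ∃ x : Cfsg.PSU 3 F q, ∀ j, x ^ j = 1 → (q ^ 2 - q + 1) / Nat.gcd 3 (q + 1) ∣ j := by
  have hq2 : 2 ≤ q := two_le_q hF
  obtain ⟨φ, hφ⟩ := exists_coord hF K hK
  obtain ⟨lam, hlam0, hlam⟩ := exists_orderOf_eq (F := K) (q ^ 2 - q + 1) (s_dvd_card_K hF K hK)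
  have hlams : lam ^ (q ^ 2 - q + 1) = 1 := by rw [← hlam]; exact pow_orderOf_eq_one lam
  have hlam1 : lam ^ (q ^ 3 + 1) = 1 := by
    rw [cube_add_one_eq q (by omega), mul_comm, pow_mul, hlams, one_pow]
  let mulL : K ≃ₗ[F] K := LinearEquiv.ofLinearMap (Algebra.lmul F K lam) (Algebra.lmul F K lam⁻¹)
    (by ext x; simp [hlam0]) (by ext x; simp [hlam0])
  have hmulL : ∀ x, mulL x = lam * x := fun x => rfl
  let g : (Fin 3 → F) ≃ₗ[F] (Fin 3 → F) := (φ.trans mulL).trans φ.symm
  have hgφ : ∀ w, φ (g w) = lam * φ w := fun w => by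
    simp only [g, LinearEquiv.trans_apply, LinearEquiv.apply_symm_apply, hmulL]
  have hg : ∀ u v, hermForm 3 F q (g u) (g v) = hermForm 3 F q u v := by
    intro u v
    rw [← hφ, ← hφ, hgφ, hgφ, traceHerm_apply, traceHerm_apply, mul_pow]
    have : lam ^ q ^ 3 * φ v ^ q ^ 3 * (lam * φ u) = lam ^ (q ^ 3 + 1) * (φ v ^ q ^ 3 * φ u) := by
      ring
    rw [this, hlam1, one_mul]
  obtain ⟨A, hA⟩ := exists_GU_of_isometry 3 g hg
  obtain ⟨M, hM⟩ : ∃ M : Matrix (Fin 3) (Fin 3) F,
      M = ((A : Matrix.GeneralLinearGroup (Fin 3) F) : Matrix (Fin 3) (Fin 3) F) := ⟨_, rfl⟩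
  rw [← hM] at hA
  have hU : IsU q M := by rw [hM]; exact (mem_GU_iff' hF A.1).mp A.2
  have hdet : M.det = 1 := by
    have e1 : Matrix.toLin' M = (g : (Fin 3 → F) →ₗ[F] (Fin 3 → F)) :=
      LinearMap.ext (fun v => by rw [Matrix.toLin'_apply]; exact hA v)
    have e2 : (g : (Fin 3 → F) →ₗ[F] (Fin 3 → F)) =
        (φ.symm : K →ₗ[F] (Fin 3 → F)) ∘ₗ (Algebra.lmul F K lam) ∘ₗ
          (φ.symm.symm : (Fin 3 → F) →ₗ[F] K) := by
      ext v : 1
      rfl
    rw [← LinearMap.det_toLin', e1, e2, LinearMap.det_conj, ← Algebra.norm_apply]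
    exact norm_eq_one_of_pow hF K hK lam hlams
  apply exists_psu_of_matrix hF M hdet hU
  intro j z hz
  have hpow : ∀ (j : ℕ) (v : Fin 3 → F), Matrix.mulVec (M ^ j) v = φ.symm (lam ^ j * φ v) := by
    intro j
    induction j with
    | zero => intro v; simp
    | succ k ih =>
      intro v
      rw [pow_succ, ← Matrix.mulVec_mulVec, hA, ih, hgφ, pow_succ, mul_assoc]
  have h1 : lam ^ j = algebraMap F K z := by
    have := hpow j (φ.symm 1)
    rw [hz, Matrix.smul_mulVec, Matrix.one_mulVec, LinearEquiv.apply_symm_apply, mul_one] at this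
    have h2 := congrArg φ this
    rw [LinearEquiv.apply_symm_apply, map_smul, LinearEquiv.apply_symm_apply] at h2
    rw [← h2, Algebra.algebraMap_eq_smul_one]
  have hz0 : z ≠ 0 := by
    rintro rfl
    rw [map_zero] at h1
    exact pow_ne_zero _ hlam0 h1
  have h2 : lam ^ (j * (q ^ 2 - 1)) = 1 := by
    rw [pow_mul, h1, ← map_pow, ← hF, FiniteField.pow_card_sub_one_eq_one z hz0, map_one]
  have h3 : q ^ 2 - q + 1 ∣ j * (q ^ 2 - 1) := by
    rw [← hlam]; exact orderOf_dvd_of_pow_eq_one h2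
  have hs : 0 < q ^ 2 - q + 1 := Nat.succ_pos _
  have h4 := div_gcd_dvd_of_dvd_mul _ _ _ hs h3
  rwa [gcd_s_sq_sub_one q hq2] at h4

include hF in
/-- the Singer-type torus of `PSU_3(q)` -/
theorem exists_singerU (p : ℕ) [Fact p.Prime] [CharP F p] :
    ∃ x : Cfsg.PSU 3 F q, ∀ j, x ^ j = 1 → (q ^ 2 - q + 1) / Nat.gcd 3 (q + 1) ∣ j := by
  have : Fintype (FiniteField.Extension F p 3) := Fintype.ofFinite _
  exact exists_singerU_of_ext hF (FiniteField.Extension F p 3)
    (FiniteField.finrank_extension F p 3)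

end Cfsg.Agent.Lib.Helper5.SpecU3
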