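import Mathlib

set_option autoImplicit false

/-! The roots of a monic irreducible polynomial `f` over a finite field `F` inside
`AdjoinRoot f` are the Frobenius conjugates of the adjoined root. -/

namespace Cfsg.Agent.Lib.Helper5.SpecU3

open Polynomial

variable {F : Type*} [Field F] [Fintype F]

theorem frob_pow_apply (K : Type*) [Field K] [Algebra F K] (i : ℕ) (x : K) :
    (FiniteField.frobeniusAlgHom F K ^ i) x = x ^ (Fintype.card F ^ i) := by
  rw [AlgHom.coe_pow, FiniteField.coe_frobeniusAlgHom, pow_iterate]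

theorem aeval_conj (f : F[X]) (K : Type*) [Field K] [Algebra F K] (β : K) (hβ : aeval β f = 0)
    (i : ℕ) : aeval (β ^ (Fintype.card F ^ i)) f = 0 := by
  rw [← frob_pow_apply, aeval_algHom_apply, hβ, map_zero]

theorem root_mem_conj (f : F[X]) (hm : f.Monic) [hirr : Fact (Irreducible f)]
    (γ : AdjoinRoot f) (hγ : aeval γ f = 0) :
    ∃ i, i < f.natDegree ∧ γ = (AdjoinRoot.root f) ^ (Fintype.card F ^ i) := by
  classical
  have hf0 : f ≠ 0 := hm.ne_zero
  have hfinM : Module.Finite F (AdjoinRoot f) := (AdjoinRoot.powerBasis hf0).finite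
  have hfin : Finite (AdjoinRoot f) := Module.finite_of_finite F
  have hrank : Module.finrank F (AdjoinRoot f) = f.natDegree := by
    rw [(AdjoinRoot.powerBasis hf0).finrank, AdjoinRoot.powerBasis_dim]
  obtain ⟨e, he⟩ : ∃ e, e = f.natDegree := ⟨_, rfl⟩
  rw [← he] at hrank ⊢
  have hinj : Function.Injective (fun i : Fin e =>
      (AdjoinRoot.root f) ^ (Fintype.card F ^ (i : ℕ))) := by
    intro i j hij
    have h1 : (FiniteField.frobeniusAlgHom F (AdjoinRoot f)) ^ (i : ℕ) =
        (FiniteField.frobeniusAlgHom F (AdjoinRoot f)) ^ (j : ℕ) := by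
      apply AdjoinRoot.algHom_ext
      rw [frob_pow_apply, frob_pow_apply]
      exact hij
    have hb := (FiniteField.bijective_frobeniusAlgHom_pow F (AdjoinRoot f)).1
    have h2 := @hb (Fin.cast hrank.symm i) (Fin.cast hrank.symm j) h1
    exact Fin.ext (by simpa using congrArg Fin.val h2)
  obtain ⟨S, hS⟩ : ∃ S : Finset (AdjoinRoot f), S = (Finset.univ : Finset (Fin e)).image
      (fun i : Fin e => (AdjoinRoot.root f) ^ (Fintype.card F ^ (i : ℕ))) := ⟨_, rfl⟩
  have hcard : S.card = e := by
    rw [hS, Finset.card_image_of_injective _ hinj, Finset.card_univ, Fintype.card_fin]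
  have hmap0 : f.map (algebraMap F (AdjoinRoot f)) ≠ 0 := (hm.map _).ne_zero
  have hsub : S ⊆ (f.map (algebraMap F (AdjoinRoot f))).roots.toFinset := by
    intro b hb
    rw [hS, Finset.mem_image] at hb
    obtain ⟨i, -, rfl⟩ := hb
    rw [Multiset.mem_toFinset, mem_roots hmap0, IsRoot.def, eval_map, ← aeval_def]
    exact aeval_conj f _ _ (by rw [AdjoinRoot.aeval_eq, AdjoinRoot.mk_self]) i
  have hle : (f.map (algebraMap F (AdjoinRoot f))).roots.toFinset.card ≤ S.card := by
    rw [hcard]
    refine (Multiset.toFinset_card_le _).trans ?_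
    refine (card_roots' _).trans ?_
    rw [natDegree_map, he]
  have heq := Finset.eq_of_subset_of_card_le hsub hle
  have hmem : γ ∈ S := by
    rw [heq, Multiset.mem_toFinset, mem_roots hmap0, IsRoot.def, eval_map, ← aeval_def]
    exact hγ
  rw [hS, Finset.mem_image] at hmem
  obtain ⟨i, -, hi⟩ := hmem
  exact ⟨i, i.2, hi.symm⟩

end Cfsg.Agent.Lib.Helper5.SpecU3
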