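import Mathlib
import Cfsg.Agent.Lib.Helper5.SpecU3.LowerU2

set_option autoImplicit false
open Cfsg

/-! Elements of `PSU_3(q)` of order `p (q + 1) / d`. -/

namespace Cfsg.Agent.Lib.Helper5.SpecU3

open Matrix Cfsg.Agent.Lib.Helper5.HermCenter Cfsg.Agent.Lib.Helper5.HermBridge
  Cfsg.Agent.Lib.Helper5.Herm Cfsg.Agent.Lib.Helper5.SpecSL

variable {F : Type*} [Field F] [Fintype F] {q : ℕ} (hF : Fintype.card F = q ^ 2)

include hF in
theorem exists_mixedU (p : ℕ) [Fact p.Prime] [CharP F p] (h2 : (2 : F) ≠ 0) :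
    ∃ x : Cfsg.PSU 3 F q, ∀ j, x ^ j = 1 → p * ((q + 1) / Nat.gcd 3 (q + 1)) ∣ j := by
  have hpp : p.Prime := Fact.out
  have hq2 : 2 ≤ q := two_le_q hF
  have hpq : p ∣ q := by
    have h1 : p ∣ Fintype.card F := by
      obtain ⟨f, -, hf⟩ := FiniteField.card F p
      rw [hf]
      exact dvd_pow_self p f.ne_zero
    rw [hF] at h1
    exact hpp.dvd_of_dvd_pow h1
  obtain ⟨ε, hε⟩ := exists_norm_neg_one hF
  have hε0 : ε ≠ 0 := by
    rintro rfl
    rw [zero_mul] at hε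
    exact (neg_ne_zero.mpr one_ne_zero) hε.symm
  obtain ⟨t, ht0, ht⟩ := exists_trace_zero hF
  obtain ⟨a, ha0, ha⟩ := exists_orderOf_eq (F := F) (q + 1)
    (by rw [card_sub_one_eq' hF]; exact Dvd.intro _ rfl)
  have ha1 : a ^ (q + 1) = 1 := by rw [← ha]; exact pow_orderOf_eq_one a
  have haq : a * a ^ q = 1 := by rw [← pow_succ']; exact ha1
  obtain ⟨c, hc⟩ : ∃ c : F, c = (a⁻¹) ^ 2 := ⟨_, rfl⟩
  have hcq : c * c ^ q = 1 := by
    rw [← pow_succ', hc, ← pow_mul, inv_pow, mul_comm, pow_mul, ha1, one_pow, inv_one]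
  obtain ⟨P, hPdef⟩ : ∃ P : Matrix (Fin 3) (Fin 3) F,
      P = !![0, t, 1; 0, t * ε, -ε; 1, 0, 0] := ⟨_, rfl⟩
  have hP : IsUnit P.det := by
    rw [hPdef, Matrix.det_fin_three]
    simp
    have : -(t * ε) - t * ε = -(2 * (t * ε)) := by ring
    rw [this]
    exact neg_ne_zero.mpr (mul_ne_zero h2 (mul_ne_zero ht0 hε0))
  apply exists_psu_of_matrix hF (P * dmat a c * P⁻¹)
  · rw [det_conj' P _ hP, dmat_det, hc]
    field_simp
  · apply isU_conj hF P _ !![1, 0, 0; 0, 0, 2 * t; 0, -(2 * t), 0] hP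
    · rw [hPdef]; exact gram_tv hF ε t hε ht
    · exact dmat_tv hF a c t haq hcq
  · intro j z hz
    have hD := conj_pow_scalar P _ hP j z hz
    rw [dmat_pow_scalar_iff a c ha0] at hD
    obtain ⟨h1, h2', h3⟩ := hD
    have hpj : p ∣ j := (CharP.cast_eq_zero_iff F p j).mp h3
    have hb3 : a ^ (3 * j) = 1 := by
      have h4 : c ^ j * (a ^ j * a ^ j) = 1 := by
        rw [hc, ← mul_pow, ← mul_pow]
        have : a⁻¹ ^ 2 * (a * a) = 1 := by field_simp
        rw [this, one_pow]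
      rw [h1, h2'] at h4
      have : a ^ (3 * j) = a ^ j * (a ^ j * a ^ j) := by
        rw [← pow_add, ← pow_add]
        congr 1
        ring
      rw [this, h2']
      exact h4
    have h5 : q + 1 ∣ 3 * j := by
      rw [← ha]
      exact orderOf_dvd_of_pow_eq_one hb3
    have h6 := div_gcd_dvd_gen (q + 1) (q + 1) j (Nat.gcd_dvd_right _ _) h5 (Dvd.intro _ rfl)
    have hcop : Nat.Coprime p ((q + 1) / Nat.gcd 3 (q + 1)) := by
      apply Nat.Coprime.coprime_dvd_right (Nat.div_dvd_of_dvd (Nat.gcd_dvd_right _ _))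
      rw [Nat.Prime.coprime_iff_not_dvd hpp]
      intro h
      have : p ∣ 1 := (Nat.dvd_add_right hpq).mp h
      exact hpp.one_lt.ne' (Nat.dvd_one.mp this)
    exact hcop.mul_dvd_of_dvd_of_dvd hpj h6

end Cfsg.Agent.Lib.Helper5.SpecU3
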