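import Mathlib
import Cfsg.Agent.Lib.Helper5.HermCenter

set_option autoImplicit false
open Cfsg

/-! The characteristic polynomial of a unitary matrix of determinant `1` is conjugate-reciprocal;
its roots in any extension field are closed under `β ↦ β ^ (-q)`. -/

namespace Cfsg.Agent.Lib.Helper5.SpecU3

open Polynomial Cfsg.Agent.Lib.Helper5.HermCenter Cfsg.Agent.Lib.Helper5.HermBridge
  Cfsg.Agent.Lib.Helper5.Herm

variable {F : Type*} [Field F] [Fintype F] {q : ℕ} (hF : Fintype.card F = q ^ 2) {n : ℕ}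

include hF in
theorem charpoly_map_sigma (X : Matrix (Fin n) (Fin n) F) (hU : IsU q X) (hdet : X.det = 1) :
    X.charpoly.map (sigma hF) = (-1) ^ n * X.charpoly.reverse := by
  have h1 : X.map (sigma hF) = (X.transpose)⁻¹ := by
    have : X.transpose * X.map (sigma hF) = 1 := hU
    exact (Matrix.inv_eq_right_inv this).symm
  have hunit : IsUnit X.transpose := by
    rw [Matrix.isUnit_iff_isUnit_det, Matrix.det_transpose, hdet]
    exact isUnit_one
  rw [← Matrix.charpoly_map, h1, Matrix.charpoly_inv _ hunit, Matrix.det_transpose, hdet,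
    Ring.inverse_one, map_one, mul_one, Fintype.card_fin, ← Matrix.reverse_charpoly,
    Matrix.charpoly_transpose]

include hF in
/-- the roots of the characteristic polynomial are closed under `β ↦ (β ^ q)⁻¹` -/
theorem root_inv_pow (X : Matrix (Fin n) (Fin n) F) (hU : IsU q X) (hdet : X.det = 1)
    (K : Type*) [Field K] [Algebra F K] (β : K) (hβ0 : β ≠ 0)
    (hβ : aeval β X.charpoly = 0) : aeval ((β ^ q)⁻¹) X.charpoly = 0 := by
  obtain ⟨p, f, hp, hcp, hq⟩ := exists_char_pow hF
  have hpF : Fact p.Prime := ⟨hp⟩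
  have hcK : CharP K p := charP_of_injective_algebraMap (algebraMap F K).injective p
  have hcomp : (iterateFrobenius K p f).comp (algebraMap F K) =
      (algebraMap F K).comp (sigma hF) := by
    ext c
    rw [RingHom.comp_apply, RingHom.comp_apply, iterateFrobenius_def, sigma_apply, ← hq, map_pow]
  have h1 : eval₂ (algebraMap F K) (β ^ q) (X.charpoly.map (sigma hF)) = 0 := by
    rw [eval₂_map, ← hcomp]
    have := hom_eval₂ X.charpoly (algebraMap F K) (iterateFrobenius K p f) β
    rw [iterateFrobenius_def, iterateFrobenius_def, ← hq] at this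
    rw [← this]
    rw [aeval_def] at hβ
    rw [hβ, zero_pow (q_ne_zero hF)]
  rw [charpoly_map_sigma hF X hU hdet, eval₂_mul, eval₂_pow, eval₂_neg, eval₂_one] at h1
  have h2 : eval₂ (algebraMap F K) (β ^ q) X.charpoly.reverse = 0 := by
    rcases mul_eq_zero.mp h1 with h | h
    · exfalso
      have : ((-1 : K)) ^ n ≠ 0 := pow_ne_zero _ (neg_ne_zero.mpr one_ne_zero)
      exact this h
    · exact h
  have hne : (β ^ q)⁻¹ ≠ 0 := inv_ne_zero (pow_ne_zero _ hβ0)
  let _ : Invertible ((β ^ q)⁻¹) := invertibleOfNonzero hne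
  have h3 := eval₂_reverse_mul_pow (algebraMap F K) ((β ^ q)⁻¹) X.charpoly
  have h4 : ⅟((β ^ q)⁻¹) = β ^ q := by
    rw [invOf_eq_inv, inv_inv]
  rw [h4, h2, zero_mul] at h3
  rw [aeval_def]
  exact h3.symm

end Cfsg.Agent.Lib.Helper5.SpecU3
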