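import Mathlib
import Cfsg.Agent.Lib.Helper5.SpecU3.NTU
import Cfsg.Agent.Lib.Helper5.SpecU3.Conj
import Cfsg.Agent.Lib.Helper5.SpecU3.Sym
import Cfsg.Agent.Lib.Helper5.Spec3.Upper

set_option autoImplicit false
open Cfsg

/-! Polynomial case analysis for the spectrum of `PSU_3(q)`: the irreducible cubic. -/

namespace Cfsg.Agent.Lib.Helper5.SpecU3

open Polynomial Cfsg.Agent.Lib.Helper5.Spec3 Cfsg.Agent.Lib.Helper5.HalfTorus
  Cfsg.Agent.Lib.Helper5.Herm

variable {F : Type*} [Field F] [Fintype F] {q : ℕ} (hF : Fintype.card F = q ^ 2)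

include hF in
/-- the `q`-th power map is injective on extension fields -/
theorem eq_one_of_pow_q (K : Type*) [Field K] [Algebra F K] (x : K) (h : x ^ q = 1) : x = 1 := by
  obtain ⟨p, f, hp, hcp, hq⟩ := exists_char_pow hF
  have hpF : Fact p.Prime := ⟨hp⟩
  have hcK : CharP K p := charP_of_injective_algebraMap (algebraMap F K).injective p
  have h1 : (x - 1) ^ p ^ f = 0 := by
    rw [sub_pow_char_pow, one_pow, ← hq, h, sub_self]
  exact sub_eq_zero.mp (pow_eq_zero_iff (pow_ne_zero f hp.ne_zero) |>.mp h1)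

include hF in
theorem eq_of_pow_q (K : Type*) [Field K] [Algebra F K] (x y : K) (hy : y ≠ 0)
    (h : x ^ q = y ^ q) : x = y := by
  have h1 : (x / y) ^ q = 1 := by
    rw [div_pow, h, div_self (pow_ne_zero _ hy)]
  have h2 := eq_one_of_pow_q hF K _ h1
  field_simp at h2
  exact h2

/-- an element of the root field fixed by the `q²`-power map lies in `F` -/
theorem mem_of_pow_card (K : Type*) [Field K] [Algebra F K] (x : K)
    (h : x ^ (Fintype.card F - 1) = 1) : ∃ c : F, x = algebraMap F K c :=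
  exists_algebraMap_eq_of_pow K x h

omit [Fintype F] in
/-- the adjoined root of an irreducible polynomial of degree at least two is not in `F` -/
theorem root_not_mem (f : F[X]) (hm : f.Monic) (h2 : 2 ≤ f.natDegree) (h3 : f.natDegree ≤ 3)
    (hirr : Irreducible f) (c : F) : AdjoinRoot.root f ≠ algebraMap F (AdjoinRoot f) c := by
  intro h
  have hfact : Fact (Irreducible f) := ⟨hirr⟩
  have h1 : aeval (AdjoinRoot.root f) f = 0 := by
    rw [AdjoinRoot.aeval_eq, AdjoinRoot.mk_self]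
  rw [h, aeval_algebraMap_apply] at h1
  have h4 : eval c f = 0 := by
    have := (algebraMap F (AdjoinRoot f)).injective (by rw [h1, map_zero] :
      algebraMap F (AdjoinRoot f) (aeval c f) = algebraMap F (AdjoinRoot f) 0)
    rw [← this, coe_aeval_eq_eval]
  have h5 := (hm.irreducible_iff_roots_eq_zero_of_degree_le_three h2 h3).mp hirr
  have hmem : c ∈ f.roots := (mem_roots hm.ne_zero).mpr h4
  rw [h5] at hmem
  exact absurd hmem (Multiset.notMem_zero c)

include hF in
/-- irreducible cubic -/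
theorem irreducible_caseU (χ : F[X]) (hm : χ.Monic) (hdeg : χ.natDegree = 3)
    (h0 : χ.coeff 0 = -1) [hfact : Fact (Irreducible χ)]
    (hclos : ∀ β : AdjoinRoot χ, β ≠ 0 → aeval β χ = 0 → aeval ((β ^ q)⁻¹) χ = 0) :
    ∃ z : F, χ ∣ X ^ ((q ^ 2 - q + 1) / Nat.gcd 3 (q + 1)) - C z := by
  have hq2 : 2 ≤ q := two_le_q hF
  have hirr : Irreducible χ := hfact.out
  obtain ⟨β, hβdef⟩ : ∃ β, β = AdjoinRoot.root χ := ⟨_, rfl⟩
  have hnorm := root_pow_eq χ hm
  rw [hdeg, h0, hF, pow_six_div q hq2, ← hβdef] at hnorm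
  have h2 : ((-1 : F)) ^ 3 * -1 = 1 := by ring
  rw [h2, map_one] at hnorm
  have hβ0 : β ≠ 0 := by
    rintro rfl
    rw [zero_pow (by positivity)] at hnorm
    exact zero_ne_one hnorm
  have hβroot : aeval β χ = 0 := by
    rw [hβdef, AdjoinRoot.aeval_eq, AdjoinRoot.mk_self]
  have hnotF : ∀ c : F, β ≠ algebraMap F (AdjoinRoot χ) c := by
    intro c
    rw [hβdef]
    exact root_not_mem χ hm (by omega) (by omega) hirr c
  have hq1 : β ^ (q + 1) ≠ 1 := by
    intro h
    have h3 : β ^ (Fintype.card F - 1) = 1 := by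
      have : Fintype.card F - 1 = (q + 1) * (q - 1) := by
        rw [hF]
        obtain ⟨k, rfl⟩ : ∃ k, q = k + 1 := ⟨q - 1, by omega⟩
        simp only [Nat.add_sub_cancel]
        have : (k + 1) ^ 2 = (k + 1 + 1) * k + 1 := by ring
        rw [this, Nat.add_sub_cancel]
      rw [this, pow_mul, h, one_pow]
    obtain ⟨c, hc⟩ := mem_of_pow_card _ β h3
    exact hnotF c hc
  obtain ⟨i, hi, hγ⟩ := root_mem_conj χ hm ((β ^ q)⁻¹) (hclos β hβ0 hβroot)
  rw [← hβdef, hF] at hγ
  rw [hdeg] at hi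
  have hmul : β ^ q * β ^ ((q ^ 2) ^ i) = 1 := by
    rw [← hγ, mul_inv_cancel₀ (pow_ne_zero _ hβ0)]
  have hcube : β ^ (q ^ 3 + 1) = 1 := by
    interval_cases i
    · exfalso
      apply hq1
      rw [pow_zero, pow_one] at hmul
      rw [pow_succ, hmul]
    · exfalso
      apply hq1
      apply eq_one_of_pow_q hF
      rw [← pow_mul, ← hmul, ← pow_add]
      congr 1
      ring
    · apply eq_one_of_pow_q hF
      rw [← pow_mul, ← hmul, ← pow_add]
      congr 1
      ring
  obtain ⟨s, hs⟩ : ∃ s, s = q ^ 2 - q + 1 := ⟨_, rfl⟩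
  rw [← hs] at hnorm ⊢
  rw [cube_add_one_eq q (by omega), ← hs] at hcube
  have hη : β ^ s = 1 := by
    have e1 : (β ^ s) ^ (q + 1) = 1 := by rw [← pow_mul, mul_comm, hcube]
    have e2 : (β ^ s) ^ (q ^ 2 + q + 1) = 1 := by rw [← pow_mul, mul_comm, hnorm]
    have e3 : ∀ η : AdjoinRoot χ, η ^ (q ^ 2 + q + 1) = (η ^ (q + 1)) ^ q * η := by
      intro η
      rw [← pow_mul, ← pow_succ]
      congr 1
      ring
    rw [e3, e1, one_pow, one_mul] at e2
    exact e2
  obtain ⟨N, hN⟩ := gcdU_dvd_s q hq2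
  obtain ⟨u, hu⟩ := Nat.gcd_dvd_right 3 (q + 1)
  rw [← hs] at hN
  have hpow : (β ^ (s / Nat.gcd 3 (q + 1))) ^ (Fintype.card F - 1) = 1 := by
    rw [hN, Nat.mul_div_cancel_left _ (gcdU_pos q), ← pow_mul]
    have : N * (Fintype.card F - 1) = s * (u * (q - 1)) := by
      have h5 : Fintype.card F - 1 = (q + 1) * (q - 1) := by
        rw [hF]
        obtain ⟨k, rfl⟩ : ∃ k, q = k + 1 := ⟨q - 1, by omega⟩
        simp only [Nat.add_sub_cancel]
        have : (k + 1) ^ 2 = (k + 1 + 1) * k + 1 := by ring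
        rw [this, Nat.add_sub_cancel]
      rw [h5, hN]
      nth_rewrite 1 [hu]
      ring
    rw [this, pow_mul, hη, one_pow]
  obtain ⟨z, hz⟩ := mem_of_pow_card _ _ hpow
  refine ⟨z, dvd_of_root_pow χ _ z ?_⟩
  rw [← hβdef]
  exact hz

end Cfsg.Agent.Lib.Helper5.SpecU3
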