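import Mathlib
import Cfsg.Agent.Lib.Helper5.SpecU3.UpperU

set_option autoImplicit false
open Cfsg

/-! Polynomial case analysis for the spectrum of `PSU_3(q)`: a linear factor times an
irreducible quadratic cannot occur. -/

namespace Cfsg.Agent.Lib.Helper5.SpecU3

open Polynomial Cfsg.Agent.Lib.Helper5.Spec3 Cfsg.Agent.Lib.Helper5.HalfTorus
  Cfsg.Agent.Lib.Helper5.Herm

variable {F : Type*} [Field F] [Fintype F] {q : ℕ} (hF : Fintype.card F = q ^ 2)

include hF in
theorem card_sub_one_eq : Fintype.card F - 1 = (q + 1) * (q - 1) := by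
  have hq2 : 2 ≤ q := two_le_q hF
  rw [hF]
  obtain ⟨k, rfl⟩ : ∃ k, q = k + 1 := ⟨q - 1, by omega⟩
  simp only [Nat.add_sub_cancel]
  have : (k + 1) ^ 2 = (k + 1 + 1) * k + 1 := by ring
  rw [this, Nat.add_sub_cancel]

include hF in
/-- linear times irreducible quadratic is impossible -/
theorem quadratic_caseU (a : F) (g : F[X]) (hm : g.Monic) (hdeg : g.natDegree = 2)
    [hfact : Fact (Irreducible g)]
    (hclos : ∀ β : AdjoinRoot g, β ≠ 0 → aeval β ((X - C a) * g) = 0 →
      aeval ((β ^ q)⁻¹) ((X - C a) * g) = 0) : False := by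
  have hq2 : 2 ≤ q := two_le_q hF
  have hirr : Irreducible g := hfact.out
  have hnoroot : ∀ c : F, eval c g ≠ 0 := by
    intro c hc
    have h5 := (hm.irreducible_iff_roots_eq_zero_of_degree_le_three (by omega) (by omega)).mp hirr
    have hmem : c ∈ g.roots := (mem_roots hm.ne_zero).mpr hc
    rw [h5] at hmem
    exact absurd hmem (Multiset.notMem_zero c)
  obtain ⟨β, hβdef⟩ : ∃ β, β = AdjoinRoot.root g := ⟨_, rfl⟩
  have hnotF : ∀ c : F, β ≠ algebraMap F (AdjoinRoot g) c := by
    intro c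
    rw [hβdef]
    exact root_not_mem g hm (by omega) (by omega) hirr c
  have hβ0 : β ≠ 0 := by
    intro h
    apply hnotF 0
    rw [h, map_zero]
  have hβg : aeval β g = 0 := by
    rw [hβdef, AdjoinRoot.aeval_eq, AdjoinRoot.mk_self]
  have hq1 : β ^ (q + 1) ≠ 1 := by
    intro h
    have h3 : β ^ (Fintype.card F - 1) = 1 := by
      rw [card_sub_one_eq hF, pow_mul, h, one_pow]
    obtain ⟨c, hc⟩ := mem_of_pow_card _ β h3
    exact hnotF c hc
  have hβroot : aeval β ((X - C a) * g) = 0 := by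
    rw [map_mul, hβg, mul_zero]
  have h1 := hclos β hβ0 hβroot
  rw [map_mul, map_sub, aeval_X, aeval_C] at h1
  rcases mul_eq_zero.mp h1 with h | h
  · -- `β ^ q` lies in `F`
    have h2 : β ^ q = algebraMap F (AdjoinRoot g) a⁻¹ := by
      rw [map_inv₀, ← sub_eq_zero.mp h, inv_inv]
    have h3 : (β ^ (q ^ 2)) ^ q = β ^ q := by
      rw [← pow_mul, mul_comm, pow_mul, h2, ← map_pow, ← hF, FiniteField.pow_card]
    have h4 := eq_of_pow_q hF _ _ _ hβ0 h3
    have h5 : β ^ (Fintype.card F - 1) = 1 := by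
      have : β ^ (Fintype.card F - 1) * β = 1 * β := by
        rw [← pow_succ, Nat.sub_add_cancel Fintype.card_pos, hF, h4, one_mul]
      exact mul_right_cancel₀ hβ0 this
    obtain ⟨c, hc⟩ := mem_of_pow_card _ β h5
    exact hnotF c hc
  · obtain ⟨i, hi, hγ⟩ := root_mem_conj g hm ((β ^ q)⁻¹) h
    rw [← hβdef, hF] at hγ
    rw [hdeg] at hi
    have hmul : β ^ q * β ^ ((q ^ 2) ^ i) = 1 := by
      rw [← hγ, mul_inv_cancel₀ (pow_ne_zero _ hβ0)]
    interval_cases i
    · apply hq1
      rw [pow_zero, pow_one] at hmul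
      rw [pow_succ, hmul]
    · apply hq1
      apply eq_one_of_pow_q hF
      rw [← pow_mul, ← hmul, ← pow_add]
      congr 1
      ring

end Cfsg.Agent.Lib.Helper5.SpecU3
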