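import Mathlib
import Cfsg.Agent.Lib.Helper5.SpecU3.UpperU2

set_option autoImplicit false
open Cfsg

/-! Polynomial case analysis for the spectrum of `PSU_3(q)`: the split case. -/

namespace Cfsg.Agent.Lib.Helper5.SpecU3

open Polynomial Cfsg.Agent.Lib.Helper5.Spec3 Cfsg.Agent.Lib.Helper5.HalfTorus
  Cfsg.Agent.Lib.Helper5.Herm

variable {F : Type*} [Field F]

/-- three distinct roots of order dividing `M` -/
theorem distinct_case_gen (a b c : F) (hab : a ≠ b) (hac : a ≠ c) (hbc : b ≠ c) (M : ℕ)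
    (ha : a ^ M = 1) (hb : b ^ M = 1) (hc : c ^ M = 1) :
    (X - C a) * (X - C b) * (X - C c) ∣ X ^ M - C (1 : F) := by
  have hA := X_sub_C_dvd_pow_sub a 1 _ ha
  have hB := X_sub_C_dvd_pow_sub b 1 _ hb
  have hC := X_sub_C_dvd_pow_sub c 1 _ hc
  have hAB := (coprime_X_sub_C a b hab).mul_dvd hA hB
  exact (IsCoprime.mul_left (coprime_X_sub_C a c hac) (coprime_X_sub_C b c hbc)).mul_dvd hAB hC

/-- a double root of order dividing `M` -/
theorem double_case_gen (p : ℕ) [Fact p.Prime] [CharP F p] (a c : F) (hac : a ≠ c)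
    (h1 : a * a * c = 1) (M : ℕ) (ha : a ^ M = 1) :
    ∃ z : F, (X - C a) * (X - C a) * (X - C c) ∣ X ^ (p * (M / Nat.gcd 3 M)) - C z := by
  have hpp : p.Prime := Fact.out
  obtain ⟨j₀, hj₀⟩ : ∃ j₀, j₀ = M / Nat.gcd 3 M := ⟨_, rfl⟩
  rw [← hj₀]
  obtain ⟨w, hw⟩ : ∃ w, w = a ^ j₀ := ⟨_, rfl⟩
  obtain ⟨v, hv⟩ := Nat.gcd_dvd_left 3 M
  have hw3 : w * w * w = 1 := by
    rw [hw, ← pow_add, ← pow_add]
    have : j₀ + j₀ + j₀ = M * v := by
      have h3 : j₀ + j₀ + j₀ = 3 * j₀ := by ring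
      rw [h3]
      nth_rewrite 1 [hv]
      rw [hj₀, mul_comm (Nat.gcd 3 M) v, mul_assoc, Nat.mul_div_cancel' (Nat.gcd_dvd_right _ _)]
      ring
    rw [this, pow_mul, ha, one_pow]
  have hcw : c ^ j₀ = w := by
    have h2 : c ^ j₀ * (w * w) = 1 := by
      rw [hw, ← mul_pow, ← mul_pow]
      have : c * (a * a) = 1 := by rw [← h1]; ring
      rw [this, one_pow]
    calc c ^ j₀ = c ^ j₀ * (w * w * w) := by rw [hw3, mul_one]
      _ = (c ^ j₀ * (w * w)) * w := by ring
      _ = w := by rw [h2, one_mul]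
  refine ⟨w ^ p, ?_⟩
  have hA := X_sub_C_dvd_pow_sub a w j₀ hw.symm
  have hC := X_sub_C_dvd_pow_sub c w j₀ hcw
  have hAC := (coprime_X_sub_C a c hac).mul_dvd hA hC
  have hpow : (X ^ j₀ - C w : F[X]) ^ p = X ^ (p * j₀) - C (w ^ p) := by
    rw [sub_pow_char, ← pow_mul, mul_comm j₀ p, ← C_pow]
  rw [← hpow]
  refine Dvd.dvd.trans ?_ (pow_dvd_pow_of_dvd hAC p)
  refine Dvd.dvd.trans ?_ (pow_dvd_pow _ hpp.two_le)
  refine ⟨X - C c, ?_⟩
  ring

/-- all roots of order dividing `M`, odd characteristic -/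
theorem split_case_gen (p : ℕ) [Fact p.Prime] [CharP F p] (hp3 : 3 ≤ p) (a b c : F)
    (habc : a * b * c = 1) (M : ℕ) (ha : a ^ M = 1) (hb : b ^ M = 1) (hc : c ^ M = 1) :
    ∃ (N : ℕ) (z : F), (X - C a) * (X - C b) * (X - C c) ∣ X ^ N - C z ∧
      (N = M ∨ N = p * (M / Nat.gcd 3 M)) := by
  by_cases hab : a = b
  · by_cases hbc : b = c
    · subst hab
      subst hbc
      have hdvd := triple_case_odd p hp3 a
      refine ⟨p * (M / Nat.gcd 3 M), (a ^ p) ^ (M / Nat.gcd 3 M), ?_, ?_⟩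
      · refine Dvd.dvd.trans hdvd ?_
        have e2 : (C ((a ^ p) ^ (M / Nat.gcd 3 M)) : F[X]) = (C (a ^ p)) ^ (M / Nat.gcd 3 M) :=
          C_pow
        rw [pow_mul, e2]
        exact sub_dvd_pow_sub_pow (X ^ p : F[X]) (C (a ^ p)) _
      · right; rfl
    · subst hab
      obtain ⟨z, hz⟩ := double_case_gen p a c hbc habc M ha
      refine ⟨_, z, hz, ?_⟩
      right; rfl
  · by_cases hac : a = c
    · subst hac
      obtain ⟨z, hz⟩ := double_case_gen p a b hab (by rw [← habc]; ring) M ha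
      refine ⟨p * (M / Nat.gcd 3 M), z, ?_, ?_⟩
      · have : (X - C a : F[X]) * (X - C b) * (X - C a) = (X - C a) * (X - C a) * (X - C b) := by
          ring
        rw [this]
        exact hz
      · right; rfl
    · by_cases hbc : b = c
      · subst hbc
        obtain ⟨z, hz⟩ := double_case_gen p b a (fun h => hab h.symm) (by rw [← habc]; ring) M hb
        refine ⟨p * (M / Nat.gcd 3 M), z, ?_, ?_⟩
        · have : (X - C a : F[X]) * (X - C b) * (X - C b) =
              (X - C b) * (X - C b) * (X - C a) := by ring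
          rw [this]
          exact hz
        · right; rfl
      · refine ⟨_, 1, distinct_case_gen a b c hab hac hbc M ha hb hc, ?_⟩
        left; rfl

section swap
variable [Fintype F] {q : ℕ} (hF : Fintype.card F = q ^ 2)

include hF in
/-- a root `a` not of norm one, with its partner `b = a ^ (-q)` -/
theorem swap_case (a b c : F) (habc : a * b * c = 1) (ha : a ^ (q + 1) ≠ 1)
    (hb : b * a ^ q = 1) :
    (X - C a) * (X - C b) * (X - C c) ∣
      X ^ ((q ^ 2 - 1) / Nat.gcd 3 (q + 1)) - C (a ^ ((q ^ 2 - 1) / Nat.gcd 3 (q + 1))) := by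
  have hq2 : 2 ≤ q := two_le_q hF
  have ha0 : a ≠ 0 := by rintro rfl; simp at habc
  have hb0 : b ≠ 0 := by rintro rfl; simp at habc
  have hcard : a ^ (q ^ 2 - 1) = 1 := by
    rw [← hF]
    exact FiniteField.pow_card_sub_one_eq_one a ha0
  have hsq : q ^ 2 - 1 = (q + 1) * (q - 1) := by
    rw [← hF]; exact card_sub_one_eq hF
  obtain ⟨u, hu⟩ := Nat.gcd_dvd_right 3 (q + 1)
  obtain ⟨v, hv⟩ := Nat.gcd_dvd_left 3 (q + 1)
  obtain ⟨N, hN⟩ : ∃ N, N = (q ^ 2 - 1) / Nat.gcd 3 (q + 1) := ⟨_, rfl⟩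
  rw [← hN]
  have hNeq : q ^ 2 - 1 = Nat.gcd 3 (q + 1) * N := by
    rw [hN, Nat.mul_div_cancel']
    rw [hsq]
    exact Dvd.dvd.mul_right (Nat.gcd_dvd_right _ _) _
  have hNu : N = u * (q - 1) := by
    have h1 : Nat.gcd 3 (q + 1) * N = Nat.gcd 3 (q + 1) * (u * (q - 1)) := by
      rw [← hNeq, hsq]
      nth_rewrite 1 [hu]
      ring
    exact Nat.eq_of_mul_eq_mul_left (gcdU_pos q) h1
  -- `a ^ ((q + 1) N) = 1` and `a ^ (3 N) = 1`
  have h1 : a ^ ((q + 1) * N) = 1 := by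
    have : (q + 1) * N = (q ^ 2 - 1) * u := by
      rw [hNu, hsq]; ring
    rw [this, pow_mul, hcard, one_pow]
  have h3 : a ^ (3 * N) = 1 := by
    have : 3 * N = (q ^ 2 - 1) * v := by
      rw [hNeq]
      nth_rewrite 1 [hv]
      ring
    rw [this, pow_mul, hcard, one_pow]
  have hbN : b ^ N = a ^ N := by
    calc b ^ N = b ^ N * a ^ ((q + 1) * N) := by rw [h1, mul_one]
      _ = (b * a ^ q) ^ N * a ^ N := by
        rw [mul_pow, ← pow_mul, mul_assoc, ← pow_add]
        congr 2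
        ring
      _ = a ^ N := by rw [hb, one_pow, one_mul]
  have hcN : c ^ N = a ^ N := by
    have h4 : c ^ N * (a ^ N * a ^ N) = 1 := by
      nth_rewrite 2 [← hbN]
      rw [← mul_pow, ← mul_pow]
      have : c * (a * b) = 1 := by rw [← habc]; ring
      rw [this, one_pow]
    calc c ^ N = c ^ N * a ^ (3 * N) := by rw [h3, mul_one]
      _ = (c ^ N * (a ^ N * a ^ N)) * a ^ N := by
        rw [mul_assoc, ← pow_add, ← pow_add]
        congr 2
        ring
      _ = a ^ N := by rw [h4, one_mul]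
  -- distinctness
  have hab : a ≠ b := by
    intro h
    apply ha
    rw [pow_succ', ← hb, ← h]
  have hnorm : b ^ (q + 1) * a ^ (q + 1) = 1 := by
    have e1 : (a ^ (q + 1)) ^ q = a ^ (q + 1) := by
      have : (a ^ (q + 1)) ^ q = a ^ (q ^ 2 - 1) * a ^ (q + 1) := by
        rw [← pow_mul, ← pow_add]
        congr 1
        rw [hsq]
        obtain ⟨k, rfl⟩ : ∃ k, q = k + 1 := ⟨q - 1, by omega⟩
        simp only [Nat.add_sub_cancel]
        ring
      rw [this, hcard, one_mul]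
    calc b ^ (q + 1) * a ^ (q + 1) = b ^ (q + 1) * (a ^ (q + 1)) ^ q := by rw [e1]
      _ = (b * a ^ q) ^ (q + 1) := by
        rw [mul_pow, ← pow_mul, ← pow_mul]
        congr 2
        ring
      _ = 1 := by rw [hb, one_pow]
  have hcn : c ^ (q + 1) = 1 := by
    have : c ^ (q + 1) * (b ^ (q + 1) * a ^ (q + 1)) = 1 := by
      rw [← mul_pow, ← mul_pow]
      have : c * (b * a) = 1 := by rw [← habc]; ring
      rw [this, one_pow]
    rw [hnorm, mul_one] at this
    exact this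
  have hac : a ≠ c := by
    intro h
    apply ha
    rw [h]
    exact hcn
  have hbc : b ≠ c := by
    intro h
    apply ha
    rw [h, hcn, one_mul] at hnorm
    exact hnorm
  have hA := X_sub_C_dvd_pow_sub a (a ^ N) N rfl
  have hB := X_sub_C_dvd_pow_sub b (a ^ N) N hbN
  have hC := X_sub_C_dvd_pow_sub c (a ^ N) N hcN
  have hAB := (coprime_X_sub_C a b hab).mul_dvd hA hB
  exact (IsCoprime.mul_left (coprime_X_sub_C a c hac) (coprime_X_sub_C b c hbc)).mul_dvd hAB hC

end swap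

end Cfsg.Agent.Lib.Helper5.SpecU3
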