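import Mathlib
import Cfsg.Agent.Lib.Helper5.SpecU3.UpperU3
import Cfsg.Agent.Lib.Helper5.Spec3.Upper2

set_option autoImplicit false
open Cfsg

/-! The upper bound for the spectrum of `PSU_3(q)`, at the level of matrices. -/

namespace Cfsg.Agent.Lib.Helper5.SpecU3

open Polynomial Cfsg.Agent.Lib.Helper5.Spec3 Cfsg.Agent.Lib.Helper5.HalfTorus
  Cfsg.Agent.Lib.Helper5.Herm Cfsg.Agent.Lib.Helper5.HermCenter

variable {F : Type*} [Field F] [Fintype F] {q : ℕ} (hF : Fintype.card F = q ^ 2)

include hF in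
/-- the split case with a root not of norm one -/
theorem swap_apply (a b c : F) (habc : a * b * c = 1)
    (hclos : (a ^ q)⁻¹ = a ∨ (a ^ q)⁻¹ = b ∨ (a ^ q)⁻¹ = c) (ha : a ^ (q + 1) ≠ 1) :
    (X - C a) * (X - C b) * (X - C c) ∣
      X ^ ((q ^ 2 - 1) / Nat.gcd 3 (q + 1)) - C (a ^ ((q ^ 2 - 1) / Nat.gcd 3 (q + 1))) := by
  have ha0 : a ≠ 0 := by rintro rfl; simp at habc
  have haq0 : a ^ q ≠ 0 := pow_ne_zero _ ha0
  rcases hclos with h | h | h
  · exfalso
    apply ha
    rw [pow_succ]
    calc a ^ q * a = a ^ q * (a ^ q)⁻¹ := by rw [h]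
      _ = 1 := mul_inv_cancel₀ haq0
  · exact swap_case hF a b c habc ha (by rw [← h, inv_mul_cancel₀ haq0])
  · have := swap_case hF a c b (by rw [← habc]; ring) ha (by rw [← h, inv_mul_cancel₀ haq0])
    have e : (X - C a : F[X]) * (X - C b) * (X - C c) = (X - C a) * (X - C c) * (X - C b) := by
      ring
    rw [e]
    exact this

include hF in
theorem exists_pow_scalar (p : ℕ) [Fact p.Prime] [CharP F p] (hp : p ≠ 2)
    (M : Matrix (Fin 3) (Fin 3) F) (hU : IsU q M) (hdet : M.det = 1) :
    ∃ (N : ℕ) (z : F), M ^ N = z • (1 : Matrix (Fin 3) (Fin 3) F) ∧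
      (N = q + 1 ∨ N = p * ((q + 1) / Nat.gcd 3 (q + 1)) ∨
        N = (q ^ 2 - 1) / Nat.gcd 3 (q + 1) ∨ N = (q ^ 2 - q + 1) / Nat.gcd 3 (q + 1)) := by
  have hpp : p.Prime := Fact.out
  have hp3 : 3 ≤ p := by
    have := hpp.two_le
    omega
  have hm : M.charpoly.Monic := Matrix.charpoly_monic M
  have hdeg : M.charpoly.natDegree = 3 := by
    rw [Matrix.charpoly_natDegree_eq_dim, Fintype.card_fin]
  have h0 : M.charpoly.coeff 0 = -1 := by
    have := Matrix.det_eq_sign_charpoly_coeff M
    rw [hdet, Fintype.card_fin] at this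
    linear_combination this
  suffices h : ∃ (N : ℕ) (z : F), M.charpoly ∣ X ^ N - C z ∧
      (N = q + 1 ∨ N = p * ((q + 1) / Nat.gcd 3 (q + 1)) ∨
        N = (q ^ 2 - 1) / Nat.gcd 3 (q + 1) ∨ N = (q ^ 2 - q + 1) / Nat.gcd 3 (q + 1)) by
    obtain ⟨N, z, h1, h2⟩ := h
    exact ⟨N, z, pow_eq_smul_of_charpoly_dvd M N z h1, h2⟩
  by_cases hroot : ∃ a, M.charpoly.IsRoot a
  · obtain ⟨a, ha⟩ := hroot
    obtain ⟨g, hgm, hgdeg, hχ, hc0⟩ := factor_of_root M.charpoly hm 2 hdeg a ha
    have hag : a * g.coeff 0 = 1 := by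
      rw [h0] at hc0
      linear_combination hc0
    by_cases hroot2 : ∃ b, g.IsRoot b
    · obtain ⟨b, hb⟩ := hroot2
      obtain ⟨h, hhm, hhdeg, hg, hd0⟩ := factor_of_root g hgm 1 hgdeg b hb
      obtain ⟨c, hc⟩ : ∃ c, c = -h.coeff 0 := ⟨_, rfl⟩
      have hh : h = X - C c := by
        rw [hhm.eq_X_add_C hhdeg, hc, map_neg, sub_neg_eq_add]
      have habc : a * b * c = 1 := by
        rw [hd0] at hag
        rw [hc]
        linear_combination hag
      have hχ' : M.charpoly = (X - C a) * (X - C b) * (X - C c) := by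
        rw [hχ, hg, hh, mul_assoc]
      have ha0 : a ≠ 0 := by rintro rfl; simp at habc
      have hb0 : b ≠ 0 := by rintro rfl; simp at habc
      have hc0' : c ≠ 0 := by rintro rfl; simp at habc
      have hmem : ∀ μ : F, eval μ M.charpoly = 0 ↔ (μ = a ∨ μ = b ∨ μ = c) := by
        intro μ
        rw [hχ', eval_mul, eval_mul, eval_sub, eval_sub, eval_sub, eval_X, eval_C, eval_C, eval_C,
          mul_eq_zero, mul_eq_zero, sub_eq_zero, sub_eq_zero, sub_eq_zero, or_assoc]
      have hclos : ∀ l : F, l ≠ 0 → eval l M.charpoly = 0 →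
          ((l ^ q)⁻¹ = a ∨ (l ^ q)⁻¹ = b ∨ (l ^ q)⁻¹ = c) := by
        intro l hl0 hl
        have := root_inv_pow hF M hU hdet F l hl0 (by rw [coe_aeval_eq_eval]; exact hl)
        rw [coe_aeval_eq_eval] at this
        exact (hmem _).mp this
      rw [hχ']
      by_cases hall : a ^ (q + 1) = 1 ∧ b ^ (q + 1) = 1 ∧ c ^ (q + 1) = 1
      · obtain ⟨N, z, h1, h2⟩ := split_case_gen p hp3 a b c habc (q + 1) hall.1 hall.2.1 hall.2.2
        refine ⟨N, z, h1, ?_⟩
        rcases h2 with h2 | h2
        · left; exact h2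
        · right; left; exact h2
      · refine ⟨(q ^ 2 - 1) / Nat.gcd 3 (q + 1), ?_⟩
        by_cases ha1 : a ^ (q + 1) = 1
        · by_cases hb1 : b ^ (q + 1) = 1
          · have hc1 : c ^ (q + 1) ≠ 1 := fun h => hall ⟨ha1, hb1, h⟩
            refine ⟨c ^ ((q ^ 2 - 1) / Nat.gcd 3 (q + 1)), ?_, Or.inr (Or.inr (Or.inl rfl))⟩
            have := swap_apply hF c a b (by rw [← habc]; ring) (by
              rcases hclos c hc0' ((hmem c).mpr (Or.inr (Or.inr rfl))) with h | h | h
              · right; left; exact h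
              · right; right; exact h
              · left; exact h) hc1
            have e : (X - C a : F[X]) * (X - C b) * (X - C c) =
                (X - C c) * (X - C a) * (X - C b) := by ring
            rw [e]
            exact this
          · refine ⟨b ^ ((q ^ 2 - 1) / Nat.gcd 3 (q + 1)), ?_, Or.inr (Or.inr (Or.inl rfl))⟩
            have := swap_apply hF b a c (by rw [← habc]; ring) (by
              rcases hclos b hb0 ((hmem b).mpr (Or.inr (Or.inl rfl))) with h | h | h
              · right; left; exact h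
              · left; exact h
              · right; right; exact h) hb1
            have e : (X - C a : F[X]) * (X - C b) * (X - C c) =
                (X - C b) * (X - C a) * (X - C c) := by ring
            rw [e]
            exact this
        · refine ⟨a ^ ((q ^ 2 - 1) / Nat.gcd 3 (q + 1)), ?_, Or.inr (Or.inr (Or.inl rfl))⟩
          exact swap_apply hF a b c habc (hclos a ha0 ((hmem a).mpr (Or.inl rfl))) ha1
    · exfalso
      have hirr := irreducible_of_no_root g hgm (by omega) (by omega) hroot2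
      have hfact : Fact (Irreducible g) := ⟨hirr⟩
      apply quadratic_caseU hF a g hgm hgdeg
      intro β hβ0 hβ
      rw [← hχ] at hβ ⊢
      exact root_inv_pow hF M hU hdet _ β hβ0 hβ
  · have hirr := irreducible_of_no_root M.charpoly hm (by omega) (by omega) hroot
    have hfact : Fact (Irreducible M.charpoly) := ⟨hirr⟩
    obtain ⟨z, hz⟩ := irreducible_caseU hF M.charpoly hm hdeg h0
      (fun β hβ0 hβ => root_inv_pow hF M hU hdet _ β hβ0 hβ)
    exact ⟨_, z, hz, Or.inr (Or.inr (Or.inr rfl))⟩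

end Cfsg.Agent.Lib.Helper5.SpecU3
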