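import Mathlib
import Cfsg.Agent.Lib.Helper5.SpecU3.UpperU4
import Cfsg.Agent.Lib.Helper5.SpecU3.LowerU3
import Cfsg.Agent.Lib.Helper5.SpecU3.LowerU4

set_option autoImplicit false
open Cfsg

/-! The spectrum of `PSU_3(q)`, `q` odd. -/

namespace Cfsg.Agent.Lib.Helper5.SpecU3

open Cfsg.Agent.Lib.Helper5.HermCenter Cfsg.Agent.Lib.Helper5.Herm Cfsg.Agent.Lib.Helper5.Spec3

theorem orderOf_dvd_of_psu3 {F : Type*} [Field F] [Fintype F] (p : ℕ) [Fact p.Prime] [CharP F p]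
    (hp : p ≠ 2) (q : ℕ) (hF : Fintype.card F = q ^ 2) (x : Cfsg.PSU 3 F q) :
    orderOf x ∣ q + 1 ∨ orderOf x ∣ p * ((q + 1) / Nat.gcd 3 (q + 1)) ∨
      orderOf x ∣ (q ^ 2 - 1) / Nat.gcd 3 (q + 1) ∨
      orderOf x ∣ (q ^ 2 - q + 1) / Nat.gcd 3 (q + 1) := by
  obtain ⟨A, rfl⟩ := QuotientGroup.mk_surjective x
  have hU : IsU q ((A : Matrix.SpecialLinearGroup (Fin 3) F) : Matrix (Fin 3) (Fin 3) F) :=
    (mem_SU_iff hF A.1).mp A.2
  have hdet : ((A : Matrix.SpecialLinearGroup (Fin 3) F) : Matrix (Fin 3) (Fin 3) F).det = 1 :=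
    A.1.2
  obtain ⟨N, z, hN, hcases⟩ := exists_pow_scalar hF p hp _ hU hdet
  have h1 : ((A : Cfsg.PSU 3 F q)) ^ N = 1 := (mk_pow_eq_one_iff_SU hF A N).mpr ⟨z, hN⟩
  have h2 : orderOf (A : Cfsg.PSU 3 F q) ∣ N := orderOf_dvd_of_pow_eq_one h1
  rcases hcases with h | h | h | h
  · exact Or.inl (h ▸ h2)
  · exact Or.inr (Or.inl (h ▸ h2))
  · exact Or.inr (Or.inr (Or.inl (h ▸ h2)))
  · exact Or.inr (Or.inr (Or.inr (h ▸ h2)))

theorem psu3_spectrum_odd {F : Type*} [Field F] [Fintype F] (p : ℕ) [Fact p.Prime] [CharP F p]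
    (hp : p ≠ 2) (q : ℕ) (hF : Fintype.card F = q ^ 2) :
    Set.range (orderOf : Cfsg.PSU 3 F q → ℕ) =
      {s : ℕ | s ∣ q + 1} ∪ {s : ℕ | s ∣ p * (q + 1) / Nat.gcd 3 (q + 1)} ∪
        {s : ℕ | s ∣ (q ^ 2 - 1) / Nat.gcd 3 (q + 1)} ∪
        {s : ℕ | s ∣ (q ^ 2 - q + 1) / Nat.gcd 3 (q + 1)} := by
  have hpp : p.Prime := Fact.out
  have h2 : (2 : F) ≠ 0 := by
    intro h
    have h' : ((2 : ℕ) : F) = 0 := by exact_mod_cast h
    have h3 := (CharP.cast_eq_zero_iff F p 2).mp h'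
    have h4 := (Nat.prime_dvd_prime_iff_eq hpp Nat.prime_two).mp h3
    exact hp h4
  have : Finite (Cfsg.PSU 3 F q) := by
    unfold Cfsg.PSU
    infer_instance
  ext m
  rw [Nat.mul_div_assoc p (Nat.gcd_dvd_right _ _)]
  simp only [Set.mem_range, Set.mem_union, Set.mem_ofPred_eq]
  constructor
  · rintro ⟨x, rfl⟩
    rcases orderOf_dvd_of_psu3 p hp q hF x with h | h | h | h
    · exact Or.inl (Or.inl (Or.inl h))
    · exact Or.inl (Or.inl (Or.inr h))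
    · exact Or.inl (Or.inr h)
    · exact Or.inr h
  · rintro (((h | h) | h) | h)
    · obtain ⟨x, hx⟩ := exists_diagU hF
      exact exists_orderOf_of_forall x _ hx m h
    · obtain ⟨x, hx⟩ := exists_mixedU hF p h2
      exact exists_orderOf_of_forall x _ hx m h
    · obtain ⟨x, hx⟩ := exists_torusU hF h2
      exact exists_orderOf_of_forall x _ hx m h
    · obtain ⟨x, hx⟩ := exists_singerU hF p
      exact exists_orderOf_of_forall x _ hx m h

end Cfsg.Agent.Lib.Helper5.SpecU3
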